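import Cfsg.Agent.H81.U43.PhaseData
import Cfsg.Agent.H81.U43.Code

/-!
Checked certificate facts for the phases on 126 points and for the spanning tree of isotropic points.
-/

set_option autoImplicit false
set_option maxRecDepth 100000

namespace H81.U43

open H94.U43 (ad9 mu9 cj9 C4 ofRows mm4 scal meq4 isU det4')

/-- The `k`-th field of `w` bits of a packed table. -/
def fld (t w k : Nat) : Nat := (t >>> (w * k)) % (2 ^ w)

/-- Packed coordinates of a point. -/
def ptC (i : Nat) : Nat := fld ptsN 10 i

/-- A code out of packed coordinates. -/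
def dig (n k : Nat) : Fin 9 := ⟨n / 9 ^ k % 9, Nat.mod_lt _ (by norm_num)⟩

/-- The alternating code matrix of three coordinates. -/
def altC (a b d : Fin 9) : C4 :=
  ofRows ![0, a, b, d] ![mu9 2 a, 0, cj9 d, mu9 2 (cj9 b)]
    ![mu9 2 b, mu9 2 (cj9 d), 0, cj9 a] ![mu9 2 d, cj9 b, mu9 2 (cj9 a), 0]

/-- The code matrix of a point. -/
def ptJ (i : Nat) : C4 := altC (dig (ptC i) 0) (dig (ptC i) 1) (dig (ptC i) 2)

/-- Transposed code matrix. -/
def tpC (A : C4) : C4 := fun i j => A j i

/-- A multiple of a code matrix. -/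
def smC (l : Fin 9) (A : C4) : C4 := fun i j => mu9 l (A i j)

/-- The phase of two points; three if there is none. -/
def phase (i j : Nat) : Nat := fld phaseN 2 (126 * i + j)

/-- The colour of two of the 378 scaled points. -/
def col (n m : Nat) : Nat :=
  if phase (n / 3) (m / 3) == 3 then 3 else (phase (n / 3) (m / 3) + 2 * (n % 3) + m % 3) % 3

/-- Multiplication by a cube root of unity. -/
def shiftN (n : Nat) : Nat := n / 3 * 3 + (n % 3 + 1) % 3

/-- The permutation of scaled points given by a table. -/
def stepN (t n : Nat) : Nat := fld t 9 (n / 3) / 3 * 3 + (fld t 9 (n / 3) % 3 + n % 3) % 3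

/-- An element with a table is a lift. -/
def liftOK (e : C4 × Nat × Nat) : Bool :=
  okM e.1 &&
  ((List.range 378).all fun n =>
    Nat.blt (stepN e.2.1 n) 378 && Nat.blt (stepN e.2.2 n) 378 &&
      stepN e.2.2 (stepN e.2.1 n) == n && stepN e.2.1 (stepN e.2.2 n) == n) &&
  ((List.range 126).all fun i =>
    let J := mm4 (mm4 e.1 (ptJ i)) (tpC e.1)
    let j := ptJ (fld e.2.1 9 i / 3)
    meq4 J j || meq4 J (smC 2 j)) &&
  ((List.range 126).all fun i => (List.range 126).all fun j =>
    col (fld e.2.1 9 i) (fld e.2.1 9 j) == col (3 * i) (3 * j))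

theorem lifts_ok : liftTab.all liftOK = true := by decide +kernel

/-- The code of an element of the table. -/
def liftM (k : Nat) : C4 := (liftTab.getD k (scal 1, 0, 0)).1

/-- The table of an element. -/
def liftT (k : Nat) : Nat := (liftTab.getD k (scal 1, 0, 0)).2.1

/-- Distinguished elements are where they should be. -/
def layoutOK : Bool :=
  let d : C4 → C4 := fun A =>
    mm4 (mm4 (fun i j => if i == j then (if i == 0 then 3 else 1) else 0) A)
      (fun i j => if i == j then (if i == 0 then 6 else 1) else 0)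
  meq4 (liftM 1) (cB 1) &&
  meq4 (liftM 4) (cA (1, 0)) && meq4 (liftM 5) (cE (1, 0)) &&
  meq4 (liftM 6) (cA (1, 1)) && meq4 (liftM 7) (cE (1, 1)) &&
  ([4, 5, 6, 7].all fun k => meq4 (liftM (k + 4)) (d (liftM k))) &&
  eqW [liftM 4, liftM 5] [liftM 5, liftM 4] && eqW [liftM 6, liftM 7] [liftM 7, liftM 6]

theorem layout_ok : layoutOK = true := by decide +kernel

/-- Whether two lifts commute on all scaled points. -/
def commOK (a b : Nat) : Bool :=
  (List.range 378).all fun n => stepN (liftT a) (stepN (liftT b) n) == stepN (liftT b) (stepN (liftT a) n)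

theorem witness_ok : (commOK 4 5 && commOK 10 11 && !commOK 8 9 && !commOK 6 7) = true := by
  decide +kernel

/-- The graph of phases is connected by paths of length at most two. -/
def connOK : Bool :=
  (List.range 126).all fun i =>
    (phase 0 i != 3) || (List.range 126).any fun j => (phase 0 j != 3) && (phase j i != 3)

theorem conn_ok : connOK = true := by decide +kernel

/-- Coordinates determine the point, up to sign. -/
def ptsOK : Bool :=
  ((List.range 126).all fun i =>
    let c := ptC i
    let c' := (mu9 2 (dig c 0)).val + 9 * (mu9 2 (dig c 1)).val + 81 * (mu9 2 (dig c 2)).val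
    let c'' := (dig c 0).val + 9 * (dig c 1).val + 81 * (dig c 2).val
    fld ptsInvN 7 c'' == i && fld ptsInvN 7 c' == i) &&
  (List.finRange 9).all fun x =>
    mu9 (mu9 x x) (mu9 x x) != 1 || mu9 x x == 1 || mu9 x x == 2

theorem pts_ok : ptsOK = true := by decide +kernel

/-- The code of an isotropic point. -/
def isoV (k : Nat) : Fin 4 → Fin 9 := fun i => dig (fld isoN 13 k) i.val

/-- A linear combination of a code matrix and a code vector. -/
def mvC (A : C4) (v : Fin 4 → Fin 9) : Fin 4 → Fin 9 := fun i =>
  ad9 (ad9 (mu9 (A i 0) (v 0)) (mu9 (A i 1) (v 1))) (ad9 (mu9 (A i 2) (v 2)) (mu9 (A i 3) (v 3)))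

/-- The second hyperbolic basis vector, an isotropic one. -/
def baseV : Fin 4 → Fin 9 := ![0, 0, 1, 4]

/-- Every point of the list is obtained from its predecessor by a generator. -/
def treeOK : Bool :=
  ((List.finRange 4).all fun i => mu9 1 (baseV i) == isoV 0 i) &&
  (List.range 280).all fun k => k == 0 ||
    (let d := fld treeN 15 k
     let w := mvC (liftM (d / 512 % 4)) (isoV (d % 512))
     let l : Fin 9 := ⟨d / 2048 % 9, Nat.mod_lt _ (by norm_num)⟩
     Nat.blt (d % 512) k && (l != 0) && (List.finRange 4).all fun i => mu9 l (w i) == isoV k i)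

theorem tree_ok : treeOK = true := by decide +kernel

/-- The inverse of the first non-zero coordinate. -/
def leadInv (v : Fin 4 → Fin 9) : Fin 9 :=
  let a := if v 0 != 0 then v 0 else if v 1 != 0 then v 1 else if v 2 != 0 then v 2 else v 3
  mu9 (mu9 (mu9 a a) (mu9 a a)) (mu9 (mu9 a a) a)

/-- Every isotropic code vector is a multiple of a point in the list. -/
def coverOK : Bool :=
  (List.range 6561).all fun n =>
    let v : Fin 4 → Fin 9 := fun i => dig n i.val
    (ad9 (ad9 (mu9 (v 0) (cj9 (v 0))) (mu9 (v 1) (cj9 (v 1))))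
      (ad9 (mu9 (v 2) (cj9 (v 2))) (mu9 (v 3) (cj9 (v 3)))) != 0) || n == 0 ||
    (let l := leadInv v
     let k := fld isoInvN 9 ((mu9 l (v 0)).val + 9 * (mu9 l (v 1)).val + 81 * (mu9 l (v 2)).val +
       729 * (mu9 l (v 3)).val)
     (l != 0) && Nat.blt k 280 && (List.finRange 4).all fun i => mu9 l (v i) == isoV k i)

theorem cover_ok : coverOK = true := by decide +kernel

/-- The code matrix of a transvection. -/
def utC (v : Fin 4 → Fin 9) (x : Fin 9) : C4 := fun i j =>
  ad9 (scal 1 i j) (mu9 (mu9 x (v i)) (cj9 (v j)))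

/-- Transvections at the base vector are powers of a long root element. -/
def baseOK : Bool :=
  (List.finRange 9).all fun x => ad9 x (cj9 x) != 0 ||
    [0, 1, 2].any fun s => meq4 (utC baseV x) (cB s)

theorem base_ok : baseOK = true := by decide +kernel

end H81.U43
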