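import Cfsg.Agent.H81.U43.Cert
import Cfsg.Agent.H50.Generation
import Cfsg.Agent.H50.Simple
import Cfsg.Agent.H50.SCFour
import Cfsg.Agent.H76.CoverLift
import Cfsg.Prelude.Def_KGroupFacts

/-!
A stem extension of `PSU₄(3)` with kernel `C₄ × C₃ × C₃`: pairs of lifts preserving the phases, the
second one twisted by a diagonal automorphism.
-/

set_option autoImplicit false
set_option maxRecDepth 100000

namespace H81.U43

open H94.U43 (ad9 mu9 cj9 C4 ofRows mm4 scal meq4 isU det4')
open Cfsg Matrix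
open scoped commutatorElement

universe u

theorem fld_lt (t w k : Nat) : fld t w k < 2 ^ w := Nat.mod_lt _ (by positivity)

theorem stepN_div (t n : Nat) : stepN t n / 3 = fld t 9 (n / 3) / 3 := by unfold stepN; omega

theorem shift_stepN (t n : Nat) : stepN t (shiftN n) = shiftN (stepN t n) := by
  unfold stepN shiftN
  have h1 : (n / 3 * 3 + (n % 3 + 1) % 3) / 3 = n / 3 := by omega
  rw [h1]
  omega

theorem stepN_mod (t n : Nat) : stepN t n % 3 = (fld t 9 (n / 3) % 3 + n % 3) % 3 := by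
  unfold stepN; omega

theorem col_stepN {t n m : Nat} (h : col (fld t 9 (n / 3)) (fld t 9 (m / 3)) =
    col (3 * (n / 3)) (3 * (m / 3))) : col (stepN t n) (stepN t m) = col n m := by
  revert h
  unfold col
  simp only [stepN_div, stepN_mod, Nat.mul_div_cancel_left _ (show 0 < 3 by norm_num),
    Nat.mul_mod_right, beq_iff_eq]
  generalize phase (fld t 9 (n / 3) / 3) (fld t 9 (m / 3) / 3) = p'
  generalize phase (n / 3) (m / 3) = p
  split_ifs <;> intro h <;> omega

/-- Multiplication of scaled points by a cube root of unity. -/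
def shiftP : Equiv.Perm (Fin 378) where
  toFun n := ⟨shiftN n.val, by unfold shiftN; omega⟩
  invFun n := ⟨shiftN (shiftN n.val), by unfold shiftN; omega⟩
  left_inv n := Fin.ext (by show shiftN (shiftN (shiftN n.val)) = n.val; unfold shiftN; omega)
  right_inv n := Fin.ext (by show shiftN (shiftN (shiftN n.val)) = n.val; unfold shiftN; omega)

theorem shiftP_cube : shiftP ^ 3 = 1 :=
  Equiv.ext fun n => Fin.ext (by
    show shiftN (shiftN (shiftN n.val)) = n.val; unfold shiftN; omega)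

theorem shiftP_pow_apply : ∀ (k : ℕ) (n : Fin 378),
    ((shiftP ^ k) n).val = n.val / 3 * 3 + (n.val % 3 + k) % 3 := by
  intro k
  induction k with
  | zero => intro n; show n.val = _; omega
  | succ k ih =>
    intro n
    rw [pow_succ', Equiv.Perm.mul_apply]
    show shiftN _ = _
    rw [ih n]
    unfold shiftN
    omega

theorem shiftP_pow_eq_one {a : ℕ} (h : shiftP ^ a = 1) : a % 3 = 0 := by
  have := shiftP_pow_apply a 0
  rw [h] at this
  simp at this
  omega

theorem commutator_perfect {X S : Type*} [Group X] [Group S] (π : X →* S)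
    (hs : Function.Surjective π) (hc : π.ker ≤ Subgroup.center X) (hS : commutator S = ⊤) :
    commutator ↥(commutator X) = ⊤ := by
  have hD : (commutator X).map π = ⊤ := by
    rw [map_commutator_eq, MonoidHom.range_eq_top.2 hs, ← commutator_def, hS]
  apply Subgroup.map_injective (commutator X).subtype_injective
  rw [Subgroup.map_subtype_commutator, ← MonoidHom.range_eq_map, Subgroup.range_subtype]
  apply le_antisymm (commutator X).commutator_le_self
  refine Subgroup.commutator_le.2 fun a _ b _ => ?_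
  obtain ⟨a', ha', hae⟩ := hD.ge (Subgroup.mem_top (π a))
  obtain ⟨b', hb', hbe⟩ := hD.ge (Subgroup.mem_top (π b))
  rw [H76.Cover.comm_congr π hc (x' := a') (y' := b') hae.symm hbe.symm]
  exact Subgroup.commutator_mem_commutator ha' hb'

/-- A submonoid of a finite group as a subgroup. -/
def subOfFinite {G : Type*} [Group G] [Finite G] (S : Set G) (h1 : (1 : G) ∈ S)
    (hm : ∀ {a b}, a ∈ S → b ∈ S → a * b ∈ S) : Subgroup G where
  carrier := S
  one_mem' := h1
  mul_mem' := hm
  inv_mem' := by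
    intro g hg
    have hp : ∀ n : ℕ, g ^ n ∈ S := by
      intro n
      induction n with
      | zero => rwa [pow_zero]
      | succ n ih => rw [pow_succ]; exact hm ih hg
    show g⁻¹ ∈ S
    rw [inv_eq_of_mul_eq_one_left (show g ^ (orderOf g - 1) * g = 1 by
      rw [← pow_succ, Nat.sub_add_cancel (orderOf_pos g), pow_orderOf_eq_one])]
    exact hp _

variable {F : Type u} [Field F] [Fintype F] (hF : Fintype.card F = 9) (c : Coord F)

local notation "SUF" => SU 4 F 3

instance finite_SU : Finite (SU 4 F 3) :=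
  Finite.of_injective (fun g => H50.suMat g) fun _ _ h => H50.SU_ext h

/-- The form of a point. -/
def ptM (i : ℕ) : Matrix (Fin 4) (Fin 4) F := c.up (ptJ i)

/-- A lift to the scaled points preserving the phases. -/
def Rel (g : SUF) (P : Equiv.Perm (Fin 378)) : Prop :=
  (∀ n : Fin 378, ∃ e : F, (e = 1 ∨ e = -1) ∧
    H50.suMat g * ptM c (n.val / 3) * (H50.suMat g)ᵀ = e • ptM c ((P n).val / 3)) ∧
  (∀ n m : Fin 378, col (P n).val (P m).val = col n.val m.val) ∧
  (∀ n, P (shiftP n) = shiftP (P n))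

theorem rel_one : Rel c (1 : SUF) 1 :=
  ⟨fun n => ⟨1, Or.inl rfl, by simp [H50.suMat_one]⟩, fun n m => rfl, fun n => rfl⟩

theorem rel_mul {g h : SUF} {P Q : Equiv.Perm (Fin 378)} (hg : Rel c g P) (hh : Rel c h Q) :
    Rel c (g * h) (P * Q) := by
  refine ⟨fun n => ?_, fun n m => ?_, fun n => ?_⟩
  · obtain ⟨e, he, h1⟩ := hh.1 n
    obtain ⟨e', he', h2⟩ := hg.1 (Q n)
    refine ⟨e * e', by rcases he with rfl | rfl <;> rcases he' with rfl | rfl <;> simp, ?_⟩
    rw [H50.suMat_mul, Matrix.transpose_mul,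
      show H50.suMat g * H50.suMat h * ptM c (n.val / 3) * ((H50.suMat h)ᵀ * (H50.suMat g)ᵀ) =
        H50.suMat g * (H50.suMat h * ptM c (n.val / 3) * (H50.suMat h)ᵀ) * (H50.suMat g)ᵀ by
        simp only [mul_assoc],
      h1, Matrix.mul_smul, Matrix.smul_mul, h2, smul_smul]
    rfl
  · exact (hg.2.1 (Q n) (Q m)).trans (hh.2.1 n m)
  · show P (Q (shiftP n)) = shiftP (P (Q n))
    rw [hh.2.2, hg.2.2]

include hF in
theorem exists_rel_tab {k : ℕ} (hk : k < 12) :
    ∃ P : Equiv.Perm (Fin 378), Rel c (c.el hF (liftM k)) P ∧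
      ∀ n, (P n).val = stepN (liftT k) n.val := by
  have hlen : k < liftTab.length := by simpa [liftTab] using hk
  have h := List.all_eq_true.1 lifts_ok _ (List.getElem_mem hlen)
  have hget : liftTab[k] = liftTab.getD k (scal 1, 0, 0) := by
    rw [List.getD_eq_getElem _ _ hlen]
  rw [hget] at h
  have hM : (liftTab.getD k (scal 1, 0, 0)).1 = liftM k := rfl
  have hT : (liftTab.getD k (scal 1, 0, 0)).2.1 = liftT k := rfl
  simp only [liftOK, Bool.and_eq_true, List.all_eq_true, List.mem_range, Bool.or_eq_true,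
    beq_iff_eq, Nat.blt_eq, hM, hT] at h
  obtain ⟨⟨⟨hok, hperm⟩, hJ⟩, hcol⟩ := h
  let P : Equiv.Perm (Fin 378) :=
    { toFun := fun n => ⟨stepN (liftT k) n.val, (hperm n.val n.isLt).1.1.1⟩
      invFun := fun n => ⟨stepN (liftTab.getD k (scal 1, 0, 0)).2.2 n.val, (hperm n.val n.isLt).1.1.2⟩
      left_inv := fun n => Fin.ext (hperm n.val n.isLt).1.2
      right_inv := fun n => Fin.ext (hperm n.val n.isLt).2 }
  refine ⟨P, ⟨fun n => ?_, fun n m => ?_, fun n => ?_⟩, fun n => rfl⟩
  · have hi : n.val / 3 < 126 := by omega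
    show ∃ e : F, _ ∧ _ = e • ptM c (stepN (liftT k) n.val / 3)
    rw [stepN_div, c.el_coe hF hok, show (c.up (liftM k))ᵀ = c.up (tpC (liftM k)) from rfl, ptM, ptM,
      ← c.up_mm, ← c.up_mm]
    have hmeq : ∀ {A B : C4}, meq4 A B = true → A = B := fun {A B} h => by
      simp only [meq4, List.all_eq_true, List.mem_finRange, true_implies, beq_iff_eq] at h
      exact funext fun i => funext fun j => h i j
    rcases hJ _ hi with h1 | h1
    · exact ⟨1, Or.inl rfl, by rw [one_smul, hmeq h1]⟩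
    · refine ⟨-1, Or.inr rfl, ?_⟩
      rw [hmeq h1]
      ext i j
      simp [Coord.up, smC, c.mul, c.neg_one]
  · exact col_stepN (hcol (n.val / 3) (by omega) (m.val / 3) (by omega))
  · exact Fin.ext (shift_stepN _ _)

/-- The elements with a lift. -/
def liftable : Subgroup SUF :=
  subOfFinite {g | ∃ P, Rel c g P} ⟨1, rel_one c⟩
    fun ⟨_, ha⟩ ⟨_, hb⟩ => ⟨_, rel_mul c ha hb⟩

include hF in
theorem liftable_top : liftable (F := F) c = ⊤ := by
  classical
  have hF2 : Fintype.card F = 3 ^ 2 := Coord.card_sq hF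
  set H := liftable (F := F) c
  have hgen : ∀ k < 12, c.el hF (liftM k) ∈ H := fun k hk =>
    ⟨_, (exists_rel_tab hF c hk).choose_spec.1⟩
  have hmeq : ∀ {A B : C4}, meq4 A B = true → A = B := fun {A B} h => by
    simp only [meq4, List.all_eq_true, List.mem_finRange, true_implies, beq_iff_eq] at h
    exact funext fun i => funext fun j => h i j
  have hokT : ∀ k < 12, okM (liftM k) = true := by decide +kernel
  have hmv : ∀ (k : ℕ), k < 12 → ∀ v : Fin 4 → Fin 9,
      H50.suMat (c.el hF (liftM k)) *ᵥ (fun i => c.φ (v i)) = fun i => c.φ (mvC (liftM k) v i) := by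
    intro k hk v
    rw [c.el_coe hF (hokT k hk)]
    ext i
    simp [Matrix.mulVec, dotProduct, Coord.up, mvC, c.add, c.mul, Fin.sum_univ_four]
    ring
  let v0 : Fin 4 → F := fun i => c.φ (baseV i)
  have ht := tree_ok
  simp only [treeOK, Bool.and_eq_true, List.all_eq_true, List.mem_finRange, true_implies,
    List.mem_range, beq_iff_eq, Bool.or_eq_true, Nat.blt_eq, bne_iff_ne, ne_eq] at ht
  have horb : ∀ k < 280, ∃ g ∈ H, ∃ l : F,
      (fun i => c.φ (isoV k i)) = l • (H50.suMat g *ᵥ v0) := by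
    intro k
    induction k using Nat.strong_induction_on with
    | _ k ih =>
      intro hk
      rcases ht.2 k hk with rfl | ⟨⟨hlt, -⟩, he⟩
      · refine ⟨1, one_mem _, 1, ?_⟩
        rw [one_smul, H50.suMat_one, Matrix.one_mulVec]
        ext i
        rw [← ht.1 i, c.mul, c.one, one_mul]
      · obtain ⟨g, hg, l, hl⟩ := ih _ hlt (lt_trans hlt hk)
        set j := fld treeN 15 k / 512 % 4
        set l' : Fin 9 := ⟨fld treeN 15 k / 2048 % 9, Nat.mod_lt _ (by norm_num)⟩
        have hj : j < 12 := by omega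
        refine ⟨c.el hF (liftM j) * g, mul_mem (hgen j hj) hg, c.φ l' * l, ?_⟩
        rw [H50.suMat_mulVec_mul, ← smul_smul, ← Matrix.mulVec_smul, ← hl, hmv j hj]
        ext i
        rw [Pi.smul_apply, smul_eq_mul, ← c.mul, he i]
  rw [eq_top_iff, ← H50.transSub_eq_top hF2 4 (by norm_num) (by norm_num), H50.transSub,
    Subgroup.closure_le]
  rintro A ⟨v, a, hv, hA⟩
  rcases eq_or_ne v 0 with rfl | hv0
  · have : A = 1 := H50.SU_ext (by
      show H50.suMat A = H50.suMat (1 : SU 4 F 3)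
      rw [hA, H50.suMat_one]
      ext i j
      simp [Cfsg.unitaryTransvection, Matrix.vecMulVec])
    rw [this]; exact one_mem H
  -- the point of `v` is in the list
  choose ψ hψ using c.bij.2
  let w : Fin 4 → Fin 9 := fun i => ψ (v i)
  let N : ℕ := (w 0).val + 9 * (w 1).val + 81 * (w 2).val + 729 * (w 3).val
  have hdig : ∀ i : Fin 4, dig N i.val = w i := by
    intro i
    have h0 := (w 0).isLt; have h1 := (w 1).isLt; have h2 := (w 2).isLt; have h3 := (w 3).isLt
    refine Fin.ext ?_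
    fin_cases i <;> simp only [dig, N, Fin.val_zero, Fin.val_one, Fin.val_two, pow_zero, pow_one,
      Nat.div_one, Fin.isValue, show ((3 : Fin 4) : ℕ) = 3 from rfl, Fin.zero_eta, Fin.mk_one,
      Fin.reduceFinMk] <;> omega
  have hN : N < 6561 := by
    have h0 := (w 0).isLt; have h1 := (w 1).isLt; have h2 := (w 2).isLt; have h3 := (w 3).isLt
    omega
  have hc := cover_ok
  simp only [coverOK, List.all_eq_true, List.mem_range, Bool.or_eq_true, bne_iff_ne, ne_eq,
    beq_iff_eq, Bool.and_eq_true, Nat.blt_eq, List.mem_finRange, true_implies] at hc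
  have hw : (fun i => c.φ (w i)) = v := funext fun i => hψ _
  obtain ⟨⟨hl0, hklt⟩, hk⟩ : (leadInv (fun i => dig N i.val) ≠ 0 ∧ _) ∧ _ := by
    rcases hc N hN with (h | h) | h
    · exfalso
      refine h (c.bij.1 ?_)
      simp only [hdig, c.add, c.mul, c.cj hF, c.zero, hψ, w]
      simp only [Cfsg.hermForm, Fin.sum_univ_four] at hv
      linear_combination hv
    · exfalso
      refine hv0 (funext fun i => ?_)
      have : w i = 0 := by
        rw [← hdig i, h]
        exact Fin.ext (by simp [dig])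
      rw [← hψ (v i)]
      show c.φ (w i) = 0
      rw [this, c.zero]
    · exact h
  obtain ⟨g, hg, l, hl⟩ := horb _ hklt
  have hl0' : c.φ (leadInv fun i => dig N i.val) ≠ 0 := fun h => hl0 (c.bij.1 (by rw [h, c.zero]))
  have hvg : v = ((c.φ (leadInv fun i => dig N i.val))⁻¹ * l) • (H50.suMat g *ᵥ v0) := by
    rw [← smul_smul, ← hl, eq_inv_smul_iff₀ hl0']
    ext i
    rw [Pi.smul_apply, smul_eq_mul, ← hk i, c.mul, hdig i, hψ]
  set μ := (c.φ (leadInv fun i => dig N i.val))⁻¹ * l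
  -- pull back to the base vector
  have hut : ∀ (x : Fin 4 → F) (μ a : F),
      unitaryTransvection 4 3 (μ • x) a = unitaryTransvection 4 3 x (a * μ ^ 4) := by
    intro x μ a
    ext i j
    simp only [Cfsg.unitaryTransvection, Matrix.add_apply, Matrix.smul_apply, Matrix.vecMulVec_apply,
      Pi.smul_apply, smul_eq_mul]
    ring
  have hT : H50.suMat (g⁻¹ * A * g) = unitaryTransvection 4 3 v0 (a * μ ^ 4) := by
    rw [H50.suMat_mul, H50.suMat_mul, hA, hvg, hut, mul_assoc,
      ← H50.iso_mul_ut (H50.SU_isIso g), ← mul_assoc, ← H50.suMat_mul, inv_mul_cancel,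
      H50.suMat_one, one_mul]
  have hv00 : v0 ≠ 0 := fun h => by
    have := congrFun h 2
    simp only [v0, baseV, Pi.zero_apply] at this
    simp [c.one] at this
  have hiso : hermForm 4 F 3 v0 v0 = 0 := by
    simp only [Cfsg.hermForm, Fin.sum_univ_four, v0]
    rw [← c.cj hF, ← c.cj hF, ← c.cj hF, ← c.cj hF, ← c.mul, ← c.mul, ← c.mul, ← c.mul, ← c.add,
      ← c.add, ← c.add, ← c.zero]
    exact congrArg c.φ (by decide)
  have hTi : H50.IsIso 3 (H50.suMat (g⁻¹ * A * g)) := H50.SU_isIso _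
  rw [hT] at hTi
  have hcond := (H50.ut_isIso_iff hF2 hv00).1 hTi
  rw [hiso, mul_zero, add_zero] at hcond
  obtain ⟨x, hx⟩ := c.bij.2 (a * μ ^ 4)
  rw [← hx, ← c.cj hF, ← c.add, ← c.zero] at hcond
  have hb := base_ok
  simp only [baseOK, List.all_eq_true, List.mem_finRange, true_implies, Bool.or_eq_true,
    bne_iff_ne, ne_eq, List.any_eq_true] at hb
  obtain ⟨s, -, hs⟩ := (hb x).resolve_left (fun h => h (c.bij.1 hcond))
  have hB1 : liftM 1 = cB 1 := by
    have := layout_ok
    simp only [layoutOK, Bool.and_eq_true] at this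
    exact hmeq this.1.1.1.1.1.1.1
  have hBs : ∀ s : ZMod 3, c.el hF (cB s) ∈ H := by
    intro s
    have h1 : c.el hF (cB 1) ∈ H := hB1 ▸ hgen 1 (by norm_num)
    have h2 : c.el hF (cB 2) ∈ H := by
      have := c.el_eq hF (l := [cB 2]) (r := [cB 1, cB 1]) (by decide +kernel)
      simp at this
      rw [this]; exact mul_mem h1 h1
    have h0 : c.el hF (cB 0) ∈ H := by
      have := c.el_eq hF (l := [cB 0]) (r := [cB 1, cB 2]) (by decide +kernel)
      simp at this
      rw [this]; exact mul_mem h1 h2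
    fin_cases s
    exacts [h0, h1, h2]
  have hokB : ∀ s : ZMod 3, okM (cB s) = true := by decide +kernel
  have hTe : g⁻¹ * A * g = c.el hF (cB s) := by
    refine H50.SU_ext ?_
    show H50.suMat (g⁻¹ * A * g) = H50.suMat (c.el hF (cB s))
    rw [hT, ← hx]
    rw [c.el_coe hF (hokB s), ← hmeq hs]
    ext i j
    simp only [Cfsg.unitaryTransvection, Matrix.add_apply, Matrix.smul_apply, Matrix.vecMulVec_apply,
      smul_eq_mul, Coord.up, utC, Matrix.of_apply, c.add, c.mul, c.cj hF, v0]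
    rcases eq_or_ne i j with h | h
    · subst h; simp [scal, c.one]; ring
    · simp [scal, h, c.zero]; ring
  have : A = g * c.el hF (cB s) * g⁻¹ := by rw [← hTe]; group
  rw [this]
  exact mul_mem (mul_mem hg (hBs s)) (inv_mem hg)

include hF in
theorem exists_rel (g : SUF) : ∃ P, Rel c g P := by
  have : g ∈ liftable (F := F) c := by rw [liftable_top hF c]; trivial
  exact this

/-- The diagonal element of determinant `i`. -/
def dgM : Matrix (Fin 4) (Fin 4) F := Matrix.diagonal ![c.φ 3, 1, 1, 1]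

/-- Its inverse. -/
def dgI : Matrix (Fin 4) (Fin 4) F := Matrix.diagonal ![c.φ 6, 1, 1, 1]

omit [Fintype F] in
theorem dg_cancel : dgM c * dgI c = 1 ∧ dgI c * dgM c = 1 := by
  have h1 : c.φ 3 * c.φ 6 = 1 := by
    rw [← c.mul, ← c.one]; exact congrArg c.φ (by decide)
  have h2 : c.φ 6 * c.φ 3 = 1 := by rw [mul_comm, h1]
  constructor <;>
  · rw [dgM, dgI, Matrix.diagonal_mul_diagonal, ← Matrix.diagonal_one]
    congr 1
    funext i
    fin_cases i <;> simp [h1, h2]

/-- The twist. -/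
noncomputable def twist : SUF →* SUF where
  toFun g := H50.mkSU (dgM c * H50.suMat g * dgI c)
    (by
      have hd : ∀ x : Fin 9, x = 3 ∨ x = 6 → ∀ i : Fin 4,
          (![c.φ x, 1, 1, 1] : Fin 4 → F) i ^ (3 + 1) = 1 := by
        intro x hx i
        have : c.φ x ^ (3 + 1) = 1 := by
          rw [show 3 + 1 = 2 * 2 from rfl, pow_mul, pow_two, pow_two, ← c.mul, ← c.mul, ← c.one]
          rcases hx with rfl | rfl <;> exact congrArg c.φ (by decide)
        fin_cases i <;> simp_all
      exact ((H50.SCFour.isIso_diagonal (Coord.card_sq hF) (hd 3 (Or.inl rfl))).mul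
        (H50.SU_isIso g)).mul (H50.SCFour.isIso_diagonal (Coord.card_sq hF) (hd 6 (Or.inr rfl))))
    (by
      rw [Matrix.det_mul, Matrix.det_mul, mul_right_comm, ← Matrix.det_mul, (dg_cancel c).1,
        Matrix.det_one, one_mul]
      exact g.1.2)
  map_one' := H50.SU_ext (by
    show dgM c * H50.suMat (1 : SU 4 F 3) * dgI c = 1
    rw [H50.suMat_one, mul_one, (dg_cancel c).1])
  map_mul' g h := H50.SU_ext (by
    show dgM c * H50.suMat (g * h) * dgI c = (dgM c * H50.suMat g * dgI c) * (dgM c * H50.suMat h * dgI c)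
    rw [H50.suMat_mul]
    simp only [mul_assoc]
    rw [← mul_assoc (dgI c) (dgM c), (dg_cancel c).2, one_mul])

/-- Triples of an element, a lift, and a lift of its twist. -/
def lifts2 : Subgroup (SUF × Equiv.Perm (Fin 378) × Equiv.Perm (Fin 378)) :=
  subOfFinite {x | Rel c x.1 x.2.1 ∧ Rel c (twist hF c x.1) x.2.2}
    ⟨rel_one c, by show Rel c (twist hF c 1) 1; rw [map_one]; exact rel_one c⟩
    fun {a b} ha hb => ⟨rel_mul c ha.1 hb.1, by
      show Rel c (twist hF c (a.1 * b.1)) (a.2.2 * b.2.2)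
      rw [map_mul]; exact rel_mul c ha.2 hb.2⟩

theorem lift_scalar {g : SUF} {P : Equiv.Perm (Fin 378)} (h : Rel c g P) {l : F}
    (hl : H50.suMat g = l • 1) : ∃ k, k < 3 ∧ P = shiftP ^ k := by
  obtain ⟨x, rfl⟩ := c.bij.2 l
  have hp := pts_ok
  simp only [ptsOK, Bool.and_eq_true, List.all_eq_true, List.mem_range, List.mem_finRange,
    true_implies, Bool.or_eq_true, bne_iff_ne, ne_eq, beq_iff_eq] at hp
  have hx4 : mu9 (mu9 x x) (mu9 x x) = 1 := by
    refine c.bij.1 ?_
    have hd : (H50.suMat g).det = 1 := g.1.2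
    rw [hl, Matrix.det_smul, Matrix.det_one, mul_one, Fintype.card_fin] at hd
    rw [c.mul, c.mul, c.one, ← hd]; ring
  have hbase : ∀ n : Fin 378, (P n).val / 3 = n.val / 3 := by
    intro n
    obtain ⟨e, he, h1⟩ := h.1 n
    rw [hl, Matrix.transpose_smul, Matrix.transpose_one, Matrix.mul_smul, mul_one, Matrix.smul_mul,
      one_mul, smul_smul] at h1
    have hxx : c.φ x * c.φ x = 1 ∨ c.φ x * c.φ x = -1 := by
      rcases hp.2 x with (hh | h2) | h2
      · exact absurd hx4 hh
      · left; rw [← c.mul, h2, c.one]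
      · right; rw [← c.mul, h2, c.neg_one]
    obtain ⟨s, hs, hse⟩ : ∃ s : Fin 9, (s = 1 ∨ s = 2) ∧
        ptM c ((P n).val / 3) = c.φ s • ptM c (n.val / 3) := by
      rcases he with rfl | rfl <;> rcases hxx with h2 | h2 <;> rw [h2] at h1
      · exact ⟨1, Or.inl rfl, by rw [c.one, h1, one_smul]⟩
      · exact ⟨2, Or.inr rfl, by rw [c.neg_one, h1, one_smul]⟩
      · exact ⟨2, Or.inr rfl, by rw [c.neg_one, ← one_smul F (ptM c (n.val / 3)), h1]; simp⟩
      · exact ⟨1, Or.inl rfl, by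
          rw [c.one, one_smul]
          exact (smul_right_injective (Matrix (Fin 4) (Fin 4) F) (neg_ne_zero.2 one_ne_zero) h1).symm⟩
    have hq : ∀ k : Fin 4, dig (ptC ((P n).val / 3)) k.val =
        mu9 s (dig (ptC (n.val / 3)) k.val) ∨ 3 ≤ k.val := by
      intro k
      have := fun j : Fin 4 => congrFun (congrFun hse 0) j
      fin_cases k
      · left; exact c.bij.1 (by simpa [ptM, Coord.up, ptJ, altC, ofRows, c.mul] using this 1)
      · left; exact c.bij.1 (by simpa [ptM, Coord.up, ptJ, altC, ofRows, c.mul] using this 2)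
      · left; exact c.bij.1 (by simpa [ptM, Coord.up, ptJ, altC, ofRows, c.mul] using this 3)
      · right; exact le_rfl
    have hi : n.val / 3 < 126 := by omega
    have hj : (P n).val / 3 < 126 := by omega
    have e0 := (hq (0 : Fin 4)).resolve_right (by norm_num)
    have e1 := (hq (1 : Fin 4)).resolve_right (by norm_num)
    have e2 := (hq (2 : Fin 4)).resolve_right (by norm_num)
    simp only [Fin.val_zero, Fin.val_one, Fin.val_two] at e0 e1 e2
    have h3 := (hp.1 _ hj).1
    rw [e0, e1, e2] at h3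
    rcases hs with rfl | rfl
    · rw [show ∀ a : Fin 9, mu9 1 a = a by decide, show ∀ a : Fin 9, mu9 1 a = a by decide,
        show ∀ a : Fin 9, mu9 1 a = a by decide] at h3
      rw [← h3, (hp.1 _ hi).1]
    · rw [← h3, (hp.1 _ hi).2]
  have hoff : ∀ a < 126, ∀ b < 126, phase a b ≠ 3 →
      ∀ (ha : 3 * a < 378) (hb : 3 * b < 378), (P ⟨3 * a, ha⟩).val % 3 = (P ⟨3 * b, hb⟩).val % 3 := by
    intro a _ b _ hab ha hb
    have := h.2.1 ⟨3 * a, ha⟩ ⟨3 * b, hb⟩
    simp only [col, hbase, beq_iff_eq, Nat.mul_div_cancel_left _ (show 0 < 3 by norm_num),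
      if_neg hab, Nat.mul_mod_right] at this
    omega
  set k := (P ⟨0, by norm_num⟩).val % 3
  refine ⟨k, Nat.mod_lt _ (by norm_num), ?_⟩
  have hcn := conn_ok
  simp only [connOK, List.all_eq_true, List.mem_range, Bool.or_eq_true, bne_iff_ne, ne_eq,
    List.any_eq_true, Bool.and_eq_true] at hcn
  have hzero : ∀ a, ∀ ha : 3 * a < 378, (P ⟨3 * a, ha⟩).val % 3 = k := by
    intro a ha
    rcases hcn a (by omega) with h1 | ⟨j, hj, h1, h2⟩
    · exact (hoff 0 (by norm_num) a (by omega) h1 (by norm_num) ha).symm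
    · rw [← hoff j hj a (by omega) h2 (by omega) ha]
      exact (hoff 0 (by norm_num) j hj h1 (by norm_num) (by omega)).symm
  have hcomm : ∀ (j : ℕ) (n : Fin 378), P ((shiftP ^ j) n) = (shiftP ^ j) (P n) := by
    intro j
    induction j with
    | zero => intro n; rfl
    | succ j ih => intro n; rw [pow_succ', Equiv.Perm.mul_apply, h.2.2, ih, Equiv.Perm.mul_apply]
  refine Equiv.ext fun n => Fin.ext ?_
  have hn : n = (shiftP ^ (n.val % 3)) ⟨3 * (n.val / 3), by omega⟩ := Fin.ext (by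
    rw [shiftP_pow_apply]; simp only []; omega)
  rw [shiftP_pow_apply]
  conv_lhs => rw [hn, hcomm, shiftP_pow_apply, hbase]
  rw [hzero]
  show 3 * (n.val / 3) / 3 * 3 + _ = _
  omega

theorem rel_comm_shift {g : SUF} {P : Equiv.Perm (Fin 378)} (h : Rel c g P) (k : ℕ) :
    P * shiftP ^ k = shiftP ^ k * P :=
  (Commute.pow_right (show Commute P shiftP from Equiv.ext h.2.2) k).eq

include hF c in
/-- The cover. -/
theorem exists_stem : ∃ (Γ : Type u) (_ : Group Γ) (_ : Finite Γ) (σ : Γ →* PSU 4 F 3),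
    IsStemExtension σ ∧ Nonempty (σ.ker ≃* Multiplicative (ZMod 4 × ZMod 3 × ZMod 3)) := by
  classical
  have hF2 : Fintype.card F = 3 ^ 2 := Coord.card_sq hF
  let X := ↥(lifts2 hF c)
  let p1 : X →* SUF := (MonoidHom.fst _ _).comp (lifts2 hF c).subtype
  have hp1 : Function.Surjective p1 := fun g => by
    obtain ⟨P, hP⟩ := exists_rel hF c g
    obtain ⟨Q, hQ⟩ := exists_rel hF c (twist hF c g)
    exact ⟨⟨(g, P, Q), hP, hQ⟩, rfl⟩
  let π : X →* PSU 4 F 3 := (QuotientGroup.mk' _).comp p1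
  have hπ : Function.Surjective π := (QuotientGroup.mk'_surjective _).comp hp1
  have hscal : ∀ {x : X}, π x = 1 → ∃ (a : Fin 9) (k l : ℕ), k < 3 ∧ l < 3 ∧
      H50.suMat x.1.1 = c.φ a • 1 ∧ x.1.2.1 = shiftP ^ k ∧ x.1.2.2 = shiftP ^ l := by
    intro x hx
    obtain ⟨l, hl⟩ := (H50.mem_center_iff_scalar hF2 (by norm_num)).1 ((QuotientGroup.eq_one_iff _).1 hx)
    obtain ⟨a, rfl⟩ := c.bij.2 l
    change H50.suMat x.1.1 = _ at hl
    have hl' : H50.suMat (twist hF c x.1.1) = c.φ a • 1 := by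
      show dgM c * H50.suMat x.1.1 * dgI c = _
      rw [hl, Matrix.mul_smul, mul_one, Matrix.smul_mul, (dg_cancel c).1]
    obtain ⟨k, hk, hP⟩ := lift_scalar c x.2.1 hl
    obtain ⟨l, hl2, hQ⟩ := lift_scalar c x.2.2 hl'
    exact ⟨a, k, l, hk, hl2, hl, hP, hQ⟩
  have hcen : π.ker ≤ Subgroup.center X := by
    intro x hx
    obtain ⟨a, k, l, -, -, ha, hP, hQ⟩ := hscal hx
    refine Subgroup.mem_center_iff.2 fun y => Subtype.ext (Prod.ext ?_ (Prod.ext ?_ ?_))
    · exact Subgroup.mem_center_iff.1 ((H50.mem_center_iff_scalar hF2 (by norm_num)).2 ⟨_, ha⟩) _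
    · show y.1.2.1 * x.1.2.1 = x.1.2.1 * y.1.2.1
      rw [hP, rel_comm_shift c y.2.1]
    · show y.1.2.2 * x.1.2.2 = x.1.2.2 * y.1.2.2
      rw [hQ, rel_comm_shift c y.2.2]
  haveI := H50.PSU_isSimple (n := 4) hF2 (by norm_num) (by norm_num)
  have hSU : commutator SUF = ⊤ := H50.SU_perfect hF2 (by norm_num) (by norm_num)
  have hG : commutator (PSU 4 F 3) = ⊤ := by
    rw [eq_top_iff, ← MonoidHom.range_eq_top.2 (QuotientGroup.mk'_surjective (Subgroup.center SUF)),
      MonoidHom.range_eq_map, ← hSU, map_commutator_eq, commutator_def]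
    exact Subgroup.commutator_mono le_top le_top
  let Γ := ↥(commutator X)
  let σ : Γ →* PSU 4 F 3 := π.comp (commutator X).subtype
  have hperf : commutator Γ = ⊤ := commutator_perfect π hπ hcen hG
  have hσs : Function.Surjective σ := by
    intro g
    have hD : (commutator X).map π = ⊤ := by
      rw [map_commutator_eq, MonoidHom.range_eq_top.2 hπ, ← commutator_def, hG]
    obtain ⟨y, hy, rfl⟩ := hD.ge (Subgroup.mem_top g)
    exact ⟨⟨y, hy⟩, rfl⟩
  have hσc : σ.ker ≤ Subgroup.center Γ := fun z hz => Subgroup.mem_center_iff.2 fun g =>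
    Subtype.ext (Subgroup.mem_center_iff.1 (hcen (show π z.1 = 1 from hz)) g.1)
  refine ⟨Γ, inferInstance, inferInstance, σ, ⟨hσs, hσc, hperf ▸ le_top⟩, ?_⟩
  -- the kernel contains a scalar of order four
  have hi4 : c.φ 3 ^ 4 = 1 := by
    rw [show (4 : ℕ) = 2 * 2 from rfl, pow_mul, pow_two, pow_two, ← c.mul, ← c.mul, ← c.one]
    exact congrArg c.φ (by decide)
  let gi : SUF := c.el hF (scal 3)
  have hgi : H50.suMat gi = c.φ 3 • 1 := by rw [c.el_coe hF (by decide +kernel), c.up_scal]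
  have hgpow : ∀ n : ℕ, H50.suMat (gi ^ n) = c.φ 3 ^ n • 1 := by
    intro n
    induction n with
    | zero => rw [pow_zero, pow_zero, one_smul]; rfl
    | succ n ih => rw [pow_succ, pow_succ, H50.suMat_mul, ih, hgi, Matrix.smul_mul, one_mul, smul_smul]
  have hgi4 : gi ^ 4 = 1 := H50.SU_ext (by
    show H50.suMat (gi ^ 4) = H50.suMat (1 : SU 4 F 3)
    rw [hgpow, hi4, one_smul]; rfl)
  have hs3 : ∀ k : ℕ, (shiftP ^ k) ^ 9 = 1 := fun k => by
    rw [← pow_mul, mul_comm, show 9 = 3 * 3 from rfl, mul_assoc, pow_mul, shiftP_cube, one_pow]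
  have m0 : ∃ z ∈ commutator X, (z : X).1 = (gi, 1, 1) := by
    have hD : (commutator X).map p1 = ⊤ := by
      rw [map_commutator_eq, MonoidHom.range_eq_top.2 hp1, ← commutator_def, hSU]
    obtain ⟨z, hz, hzg⟩ := hD.ge (Subgroup.mem_top gi)
    obtain ⟨a, k, l, -, -, -, hP, hQ⟩ := hscal (x := z) (by
      show QuotientGroup.mk' _ (p1 z) = 1
      rw [hzg]
      exact (QuotientGroup.eq_one_iff _).2 ((H50.mem_center_iff_scalar hF2 (by norm_num)).2 ⟨_, hgi⟩))
    refine ⟨z ^ 9, pow_mem hz 9, ?_⟩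
    refine Prod.ext ?_ (Prod.ext ?_ ?_)
    · show z.1.1 ^ 9 = gi
      rw [show z.1.1 = gi from hzg, show 9 = 4 + (4 + 1) from rfl, pow_add, pow_add, hgi4, one_mul,
        one_mul, pow_one]
    · show z.1.2.1 ^ 9 = 1
      rw [hP, hs3]
    · show z.1.2.2 ^ 9 = 1
      rw [hQ, hs3]
  have hw := witness_ok
  simp only [Bool.and_eq_true, commOK, List.all_eq_true, List.mem_range, beq_iff_eq,
    Bool.not_eq_true', ← Bool.not_eq_true] at hw
  have hmeq : ∀ {A B : C4}, meq4 A B = true → A = B := fun {A B} h => by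
    simp only [meq4, List.all_eq_true, List.mem_finRange, true_implies, beq_iff_eq] at h
    exact funext fun i => funext fun j => h i j
  have hlay := layout_ok
  simp only [layoutOK, Bool.and_eq_true, List.all_eq_true] at hlay
  have htw : ∀ k ∈ [4, 5, 6, 7], twist hF c (c.el hF (liftM k)) = c.el hF (liftM (k + 4)) := by
    intro k hk
    have hok : ∀ k < 12, okM (liftM k) = true := by decide +kernel
    have hk' : k < 8 := by fin_cases hk <;> norm_num
    refine H50.SU_ext ?_
    show dgM c * H50.suMat (c.el hF (liftM k)) * dgI c = H50.suMat _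
    rw [c.el_coe hF (hok k (by omega)), c.el_coe hF (hok (k + 4) (by omega)),
      hmeq (hlay.1.1.2 k hk), c.up_mm, c.up_mm]
    congr 1
    · congr 1
      ext i j
      fin_cases i <;> fin_cases j <;> simp [dgM, Coord.up, c.zero, c.one]
    · ext i j
      fin_cases i <;> fin_cases j <;> simp [dgI, Coord.up, c.zero, c.one]
  have wit : ∀ a b, a ∈ [4, 5, 6, 7] → b ∈ [4, 5, 6, 7] →
      eqW [liftM a, liftM b] [liftM b, liftM a] = true →
      ∃ z ∈ commutator X, (z : X).1.1 = 1 ∧
        (z.1.2.1 = 1 ↔ ∀ n < 378, stepN (liftT a) (stepN (liftT b) n) = stepN (liftT b) (stepN (liftT a) n)) ∧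
        (z.1.2.2 = 1 ↔ ∀ n < 378, stepN (liftT (a + 4)) (stepN (liftT (b + 4)) n) =
          stepN (liftT (b + 4)) (stepN (liftT (a + 4)) n)) := by
    intro a b ha hb hab
    have ha' : a + 4 < 12 := by fin_cases ha <;> norm_num
    have hb' : b + 4 < 12 := by fin_cases hb <;> norm_num
    obtain ⟨Pa, hPa, hPa'⟩ := exists_rel_tab hF c (k := a) (by omega)
    obtain ⟨Pb, hPb, hPb'⟩ := exists_rel_tab hF c (k := b) (by omega)
    obtain ⟨Qa, hQa, hQa'⟩ := exists_rel_tab hF c ha'
    obtain ⟨Qb, hQb, hQb'⟩ := exists_rel_tab hF c hb'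
    let xa : X := ⟨(_, Pa, Qa), hPa, (htw a ha).symm ▸ hQa⟩
    let xb : X := ⟨(_, Pb, Qb), hPb, (htw b hb).symm ▸ hQb⟩
    refine ⟨⁅xa, xb⁆, Subgroup.commutator_mem_commutator (Subgroup.mem_top _) (Subgroup.mem_top _),
      ?_, ?_, ?_⟩
    · show ⁅c.el hF (liftM a), c.el hF (liftM b)⁆ = 1
      rw [commutatorElement_eq_one_iff_mul_comm]
      simpa using c.el_eq hF hab
    · show ⁅Pa, Pb⁆ = 1 ↔ _
      rw [commutatorElement_eq_one_iff_mul_comm]
      constructor
      · intro h n hn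
        have := congrArg (fun e : Equiv.Perm (Fin 378) => (e ⟨n, hn⟩).val) h
        simpa [hPa', hPb'] using this
      · intro h
        exact Equiv.ext fun n => Fin.ext (by simpa [hPa', hPb'] using h n.val n.isLt)
    · show ⁅Qa, Qb⁆ = 1 ↔ _
      rw [commutatorElement_eq_one_iff_mul_comm]
      constructor
      · intro h n hn
        have := congrArg (fun e : Equiv.Perm (Fin 378) => (e ⟨n, hn⟩).val) h
        simpa [hQa', hQb'] using this
      · intro h
        exact Equiv.ext fun n => Fin.ext (by simpa [hQa', hQb'] using h n.val n.isLt)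
  have norm1 : ∀ z : X, z.1.1 = 1 → π z = 1 := fun z h => by
    show QuotientGroup.mk' _ z.1.1 = 1
    rw [h, map_one]
  have normalise : ∀ k : ℕ, k < 3 → k ≠ 0 → ∃ e : ℕ, (shiftP ^ k) ^ e = shiftP := by
    intro k hk hk0
    rcases (show k = 1 ∨ k = 2 by omega) with rfl | rfl
    · exact ⟨1, by rw [pow_one, pow_one]⟩
    · exact ⟨2, by rw [← pow_mul, show 2 * 2 = 3 + 1 from rfl, pow_add, shiftP_cube, one_mul, pow_one]⟩
  have m1 : ∃ z ∈ commutator X, (z : X).1 = (1, shiftP, 1) := by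
    obtain ⟨z, hz, h1, hP, hQ⟩ := wit 6 7 (by simp) (by simp) hlay.2
    obtain ⟨-, k, l, hk, -, -, hPk, -⟩ := hscal (norm1 z h1)
    have hk0 : k ≠ 0 := fun h => hw.2 (hP.1 (by rw [hPk, h, pow_zero]))
    obtain ⟨e, he⟩ := normalise k hk hk0
    refine ⟨z ^ e, pow_mem hz e, Prod.ext ?_ (Prod.ext ?_ ?_)⟩
    · show z.1.1 ^ e = 1
      rw [h1, one_pow]
    · show z.1.2.1 ^ e = shiftP
      rw [hPk, he]
    · show z.1.2.2 ^ e = 1
      rw [hQ.2 hw.1.1.2, one_pow]
  have m2 : ∃ z ∈ commutator X, (z : X).1 = (1, 1, shiftP) := by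
    obtain ⟨z, hz, h1, hP, hQ⟩ := wit 4 5 (by simp) (by simp) hlay.1.2
    obtain ⟨-, k, l, -, hl, -, -, hQl⟩ := hscal (norm1 z h1)
    have hl0 : l ≠ 0 := fun h => hw.1.2 (hQ.1 (by rw [hQl, h, pow_zero]))
    obtain ⟨e, he⟩ := normalise l hl hl0
    refine ⟨z ^ e, pow_mem hz e, Prod.ext ?_ (Prod.ext ?_ ?_)⟩
    · show z.1.1 ^ e = 1
      rw [h1, one_pow]
    · show z.1.2.1 ^ e = 1
      rw [hP.2 hw.1.1.1, one_pow]
    · show z.1.2.2 ^ e = shiftP
      rw [hQl, he]
  obtain ⟨z0, h0m, h0⟩ := m0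
  obtain ⟨z1, h1m, h1⟩ := m1
  obtain ⟨z2, h2m, h2⟩ := m2
  let val : ZMod 4 × ZMod 3 × ZMod 3 → Γ := fun x =>
    ⟨z0 ^ x.1.val * (z1 ^ x.2.1.val * z2 ^ x.2.2.val),
      mul_mem (pow_mem h0m _) (mul_mem (pow_mem h1m _) (pow_mem h2m _))⟩
  have hval : ∀ x, (val x).1.1 = (gi ^ x.1.val, shiftP ^ x.2.1.val, shiftP ^ x.2.2.val) := by
    intro x
    show (z0.1 ^ x.1.val * (z1.1 ^ x.2.1.val * z2.1 ^ x.2.2.val)) = _
    rw [h0, h1, h2]
    simp [Prod.pow_def]
  have hker : ∀ x, val x ∈ σ.ker := by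
    intro x
    show QuotientGroup.mk' _ (val x).1.1.1 = 1
    rw [hval]
    exact (QuotientGroup.eq_one_iff _).2 ((H50.mem_center_iff_scalar hF2 (by norm_num)).2
      ⟨_, hgpow _⟩)
  let f : Multiplicative (ZMod 4 × ZMod 3 × ZMod 3) →* σ.ker :=
    MonoidHom.mk' (fun x => ⟨val x.toAdd, hker _⟩) fun x y => by
      refine Subtype.ext (Subtype.ext (Subtype.ext ?_))
      show (val _).1.1 = (val _).1.1 * (val _).1.1
      rw [hval, hval, hval]
      simp only [toAdd_mul, Prod.fst_add, Prod.snd_add, Prod.mk_mul_mk, ← pow_add, ZMod.val_add]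
      rw [← pow_eq_pow_mod _ hgi4, ← pow_eq_pow_mod _ shiftP_cube, ← pow_eq_pow_mod _ shiftP_cube]
  have hφ3 : ∀ n, n < 4 → c.φ 3 ^ n = 1 → n = 0 := by
    intro n hn h
    have e2 : c.φ 3 ^ 2 = c.φ 2 := by rw [pow_two, ← c.mul]; exact congrArg c.φ (by decide)
    interval_cases n
    · rfl
    · rw [pow_one, ← c.one] at h; exact absurd (c.bij.1 h) (by decide)
    · rw [e2, ← c.one] at h; exact absurd (c.bij.1 h) (by decide)
    · rw [pow_succ, e2, ← c.mul, ← c.one] at h; exact absurd (c.bij.1 h) (by decide)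
  refine ⟨(MulEquiv.ofBijective f ⟨?_, ?_⟩).symm⟩
  · rw [← MonoidHom.ker_eq_bot_iff, eq_bot_iff]
    intro x hx
    have h : (val x.toAdd).1.1 = (1, 1, 1) :=
      congrArg (fun z : σ.ker => z.1.1.1) (MonoidHom.mem_ker.1 hx)
    rw [hval] at h
    simp only [Prod.mk.injEq] at h
    obtain ⟨ha, hb, hd⟩ := h
    have ha' : x.toAdd.1.val = 0 := by
      refine hφ3 _ (ZMod.val_lt _) ?_
      have := congrArg (fun g : SUF => H50.suMat g 0 0) ha
      simpa [hgpow, H50.suMat_one] using this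
    have hb' := shiftP_pow_eq_one hb
    have hd' := shiftP_pow_eq_one hd
    rw [Nat.mod_eq_of_lt (ZMod.val_lt _)] at hb' hd'
    rw [ZMod.val_eq_zero] at ha' hb' hd'
    exact Subgroup.mem_bot.2 (Multiplicative.toAdd.injective (Prod.ext ha' (Prod.ext hb' hd')))
  · intro z
    obtain ⟨a, k, l, hk, hl, ha, hP, hQ⟩ := hscal (x := z.1.1) z.2
    have ha4 : mu9 (mu9 a a) (mu9 a a) = 1 := by
      refine c.bij.1 ?_
      have hd : (H50.suMat z.1.1.1.1).det = 1 := z.1.1.1.1.1.2
      rw [ha, Matrix.det_smul, Matrix.det_one, mul_one, Fintype.card_fin] at hd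
      rw [c.mul, c.mul, c.one, ← hd]; ring
    have hcases : ∀ a : Fin 9, mu9 (mu9 a a) (mu9 a a) = 1 → a = 1 ∨ a = 3 ∨ a = 2 ∨ a = 6 := by decide
    obtain ⟨n, hn⟩ : ∃ n : ZMod 4, c.φ 3 ^ n.val = c.φ a := by
      rcases hcases a ha4 with rfl | rfl | rfl | rfl
      · exact ⟨0, by rw [show (0 : ZMod 4).val = 0 from rfl, pow_zero, c.one]⟩
      · exact ⟨1, by rw [show (1 : ZMod 4).val = 1 from rfl, pow_one]⟩
      · exact ⟨2, by
          rw [show (2 : ZMod 4).val = 2 from rfl, pow_two, ← c.mul]; exact congrArg c.φ (by decide)⟩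
      · exact ⟨3, by
          rw [show (3 : ZMod 4).val = 3 from rfl, pow_succ, pow_two, ← c.mul, ← c.mul]
          exact congrArg c.φ (by decide)⟩
    refine ⟨Multiplicative.ofAdd (n, (k : ZMod 3), (l : ZMod 3)), ?_⟩
    refine Subtype.ext (Subtype.ext (Subtype.ext ?_))
    show (val _).1.1 = z.1.1.1
    rw [hval]
    refine Prod.ext ?_ (Prod.ext ?_ ?_)
    · refine H50.SU_ext ?_
      show H50.suMat (gi ^ n.val) = H50.suMat z.1.1.1.1
      rw [hgpow, hn, ha]
    · show shiftP ^ (k : ZMod 3).val = _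
      rw [ZMod.val_natCast, Nat.mod_eq_of_lt hk, hP]
    · show shiftP ^ (l : ZMod 3).val = _
      rw [ZMod.val_natCast, Nat.mod_eq_of_lt hl, hQ]

end H81.U43
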