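import Cfsg.Agent.H94.U43Seven

/-!
Code matrices of the root elements of `SU₄(3)` at a hyperbolic basis, in standard coordinates,
with a torus element, a reflection and generators.
-/

set_option autoImplicit false

namespace H81.U43

open H94.U43 (C4 ofRows)

/-- first short root group -/
def tabA : List C4 :=
  [ofRows ![1, 0, 0, 0] ![0, 1, 0, 0] ![0, 0, 1, 0] ![0, 0, 0, 1],
   ofRows ![1, 0, 2, 7] ![0, 1, 8, 2] ![1, 7, 1, 0] ![8, 1, 0, 1],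
   ofRows ![1, 0, 1, 5] ![0, 1, 4, 1] ![2, 5, 1, 0] ![4, 2, 0, 1],
   ofRows ![1, 0, 6, 4] ![0, 1, 7, 6] ![6, 8, 1, 0] ![5, 6, 0, 1],
   ofRows ![1, 0, 8, 2] ![0, 1, 3, 8] ![7, 3, 1, 0] ![1, 7, 0, 1],
   ofRows ![1, 0, 7, 6] ![0, 1, 2, 7] ![8, 1, 1, 0] ![6, 8, 0, 1],
   ofRows ![1, 0, 3, 8] ![0, 1, 5, 3] ![3, 4, 1, 0] ![7, 3, 0, 1],
   ofRows ![1, 0, 5, 3] ![0, 1, 1, 5] ![4, 2, 1, 0] ![3, 4, 0, 1],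
   ofRows ![1, 0, 4, 1] ![0, 1, 6, 4] ![5, 6, 1, 0] ![2, 5, 0, 1]]

/-- second short root group -/
def tabE : List C4 :=
  [ofRows ![1, 0, 0, 0] ![0, 1, 0, 0] ![0, 0, 1, 0] ![0, 0, 0, 1],
   ofRows ![1, 0, 1, 7] ![0, 1, 4, 2] ![2, 5, 1, 0] ![8, 1, 0, 1],
   ofRows ![1, 0, 2, 5] ![0, 1, 8, 1] ![1, 7, 1, 0] ![4, 2, 0, 1],
   ofRows ![1, 0, 3, 4] ![0, 1, 5, 6] ![3, 4, 1, 0] ![5, 6, 0, 1],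
   ofRows ![1, 0, 4, 2] ![0, 1, 6, 8] ![5, 6, 1, 0] ![1, 7, 0, 1],
   ofRows ![1, 0, 5, 6] ![0, 1, 1, 7] ![4, 2, 1, 0] ![6, 8, 0, 1],
   ofRows ![1, 0, 6, 8] ![0, 1, 7, 3] ![6, 8, 1, 0] ![7, 3, 0, 1],
   ofRows ![1, 0, 7, 3] ![0, 1, 2, 5] ![8, 1, 1, 0] ![3, 4, 0, 1],
   ofRows ![1, 0, 8, 1] ![0, 1, 3, 4] ![7, 3, 1, 0] ![2, 5, 0, 1]]

/-- first long root group -/
def tabB : List C4 :=
  [ofRows ![1, 0, 0, 0] ![0, 1, 0, 0] ![0, 0, 1, 0] ![0, 0, 0, 1],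
   ofRows ![1, 0, 0, 0] ![0, 1, 0, 0] ![0, 0, 4, 4] ![0, 0, 5, 7],
   ofRows ![1, 0, 0, 0] ![0, 1, 0, 0] ![0, 0, 7, 8] ![0, 0, 7, 4]]

/-- second long root group -/
def tabC : List C4 :=
  [ofRows ![1, 0, 0, 0] ![0, 1, 0, 0] ![0, 0, 1, 0] ![0, 0, 0, 1],
   ofRows ![4, 4, 0, 0] ![5, 7, 0, 0] ![0, 0, 1, 0] ![0, 0, 0, 1],
   ofRows ![7, 8, 0, 0] ![7, 4, 0, 0] ![0, 0, 1, 0] ![0, 0, 0, 1]]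

/-- torus element -/
def matT : C4 := ofRows ![0, 3, 0, 0] ![1, 0, 0, 0] ![0, 0, 0, 1] ![0, 0, 6, 0]

/-- reflection -/
def matW : C4 := ofRows ![1, 0, 0, 0] ![0, 1, 0, 0] ![0, 0, 6, 0] ![0, 0, 0, 3]

/-- generators -/
def tabGen : List C4 :=
  [ofRows ![1, 0, 2, 7] ![0, 1, 8, 2] ![1, 7, 1, 0] ![8, 1, 0, 1],
   ofRows ![1, 0, 0, 0] ![0, 1, 0, 0] ![0, 0, 4, 4] ![0, 0, 5, 7],
   ofRows ![1, 0, 7, 3] ![0, 1, 1, 7] ![8, 2, 1, 0] ![3, 8, 0, 1],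
   ofRows ![1, 0, 0, 0] ![0, 1, 0, 0] ![0, 0, 6, 0] ![0, 0, 0, 3]]

end H81.U43
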